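import Mathlib

/-!
Classes of a group given by a conjugation table: two centreless groups whose generating classes
have the same table are isomorphic by an isomorphism carrying one class to the other.
-/

set_option autoImplicit false

namespace H37.Fischer.Small

variable {G H ι : Type*} [Group G] [Group H]

/-- `D` generates the centreless group `G` and is parametrised by `ι` with conjugation table `op`. -/
def IsTable (D : Set G) (op : ι → ι → ι) : Prop :=
  ∃ a : ι → G, Set.range a = D ∧ Function.Injective a ∧ Subgroup.closure D = ⊤ ∧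
    Subgroup.center G = ⊥ ∧ ∀ i j, a i * a j * (a i)⁻¹ = a (op i j)

/-- An element commuting with a generating family is central. -/
theorem mem_center_of_gen {a : ι → G} (hgen : Subgroup.closure (Set.range a) = ⊤) {g : G}
    (h : ∀ i, g * a i * g⁻¹ = a i) : g ∈ Subgroup.center G := by
  rw [Subgroup.mem_center_iff]
  intro x
  have hx : x ∈ Subgroup.centralizer ({g} : Set G) := by
    refine (Subgroup.closure_le _).2 ?_ (hgen ▸ Subgroup.mem_top x)
    rintro _ ⟨i, rfl⟩
    rw [SetLike.mem_coe, Subgroup.mem_centralizer_singleton_iff]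
    have := h i
    rw [mul_inv_eq_iff_eq_mul] at this
    exact this.symm
  exact (Subgroup.mem_centralizer_singleton_iff.1 hx)

/-- Conjugation by any element permutes a closed generating family. -/
theorem exists_conj [Finite ι] {a : ι → G} (hinj : Function.Injective a)
    {op : ι → ι → ι} (hop : ∀ i j, a i * a j * (a i)⁻¹ = a (op i j))
    (g : G) (hg : g ∈ Subgroup.closure (Set.range a)) : ∀ i, ∃ j, g * a i * g⁻¹ = a j := by
  induction hg using Subgroup.closure_induction with
  | mem x hx => obtain ⟨k, rfl⟩ := hx; exact fun i => ⟨op k i, hop k i⟩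
  | one => exact fun i => ⟨i, by simp⟩
  | mul x y _ _ hx hy =>
    intro i
    obtain ⟨j, hj⟩ := hy i
    obtain ⟨k, hk⟩ := hx j
    exact ⟨k, by rw [← hk, ← hj]; group⟩
  | inv x _ hx =>
    choose σ hσ using hx
    have hs : Function.Surjective σ := Finite.surjective_of_injective fun p q h => hinj (by
      have h1 : x * a p * x⁻¹ = x * a q * x⁻¹ := by rw [hσ, hσ, h]
      exact mul_left_cancel (mul_right_cancel h1))
    intro i
    obtain ⟨j, rfl⟩ := hs i
    exact ⟨j, by rw [← hσ]; group⟩

/-- Equal tables give an isomorphism of the classes. -/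
theorem exists_iso [Finite ι] {D : Set G} {D' : Set H} {op : ι → ι → ι}
    (h : IsTable D op) (h' : IsTable D' op) : ∃ e : G ≃* H, e '' D = D' := by
  obtain ⟨a, rfl, hai, hag, haz, hao⟩ := h
  obtain ⟨b, rfl, hbi, hbg, hbz, hbo⟩ := h'
  let K : Subgroup (G × H) := Subgroup.closure (Set.range fun i => (a i, b i))
  have key : ∀ x ∈ K, ∀ i, ∃ j, x * (a i, b i) * x⁻¹ = (a j, b j) :=
    fun x hx => exists_conj (fun i j e => hai (congrArg Prod.fst e))
      (fun i j => Prod.ext (hao i j) (hbo i j)) x hx
  let p : K →* G := (MonoidHom.fst G H).comp K.subtype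
  let q : K →* H := (MonoidHom.snd G H).comp K.subtype
  have hp : Function.Bijective p := by
    refine ⟨(injective_iff_map_eq_one p).2 fun x hx => Subtype.ext (Prod.ext hx ?_), ?_⟩
    · have hc : (x : G × H).2 ∈ Subgroup.center H := mem_center_of_gen hbg fun i => by
        obtain ⟨j, hj⟩ := key _ x.2 i
        have h1 := congrArg Prod.fst hj
        have h2 := congrArg Prod.snd hj
        have hx' : (x : G × H).1 = 1 := hx
        simp only [Prod.fst_mul, Prod.fst_inv, hx', one_mul, inv_one, mul_one] at h1
        simp only [Prod.snd_mul, Prod.snd_inv] at h2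
        rw [h2, hai h1]
      rw [hbz, Subgroup.mem_bot] at hc
      exact hc
    · rw [← MonoidHom.range_eq_top, eq_top_iff, ← hag, Subgroup.closure_le]
      rintro _ ⟨i, rfl⟩
      exact ⟨⟨(a i, b i), Subgroup.subset_closure ⟨i, rfl⟩⟩, rfl⟩
  have hq : Function.Bijective q := by
    refine ⟨(injective_iff_map_eq_one q).2 fun x hx => Subtype.ext (Prod.ext ?_ hx), ?_⟩
    · have hc : (x : G × H).1 ∈ Subgroup.center G := mem_center_of_gen hag fun i => by
        obtain ⟨j, hj⟩ := key _ x.2 i
        have h1 := congrArg Prod.fst hj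
        have h2 := congrArg Prod.snd hj
        have hx' : (x : G × H).2 = 1 := hx
        simp only [Prod.fst_mul, Prod.fst_inv] at h1
        simp only [Prod.snd_mul, Prod.snd_inv, hx', one_mul, inv_one, mul_one] at h2
        rw [h1, hbi h2]
      rw [haz, Subgroup.mem_bot] at hc
      exact hc
    · rw [← MonoidHom.range_eq_top, eq_top_iff, ← hbg, Subgroup.closure_le]
      rintro _ ⟨i, rfl⟩
      exact ⟨⟨(a i, b i), Subgroup.subset_closure ⟨i, rfl⟩⟩, rfl⟩
  refine ⟨(MulEquiv.ofBijective p hp).symm.trans (MulEquiv.ofBijective q hq), ?_⟩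
  rw [← Set.range_comp]
  congr 1
  funext i
  have hs : (MulEquiv.ofBijective p hp).symm (a i) =
      (⟨(a i, b i), Subgroup.subset_closure ⟨i, rfl⟩⟩ : K) :=
    (MulEquiv.symm_apply_eq _).2 rfl
  rw [Function.comp_apply, MulEquiv.trans_apply, hs]
  rfl

/-- A generating family with a faithful table, modulo the centre. -/
theorem isTable_quot [Finite ι] {D : Set G} {op : ι → ι → ι} (a : ι → G) (hD : Set.range a = D)
    (hgen : Subgroup.closure (Set.range a) = ⊤) (hinj : Function.Injective a)
    (hop : ∀ i j, a i * a j * (a i)⁻¹ = a (op i j))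
    (hfaith : ∀ i j, (∀ k, op i k = op j k) → i = j) :
    IsTable ((QuotientGroup.mk : G → G ⧸ Subgroup.center G) '' D) op := by
  subst hD
  let π := QuotientGroup.mk' (Subgroup.center G)
  have hsame : ∀ i j, π (a i) = π (a j) → i = j := fun i j h => hfaith i j fun k => by
    apply hinj
    rw [← hop, ← hop]
    obtain ⟨z, hz, hij⟩ := (QuotientGroup.mk'_eq_mk' _).1 h
    have hc := Subgroup.mem_center_iff.1 hz
    rw [← hij, mul_inv_rev]
    calc a i * a k * (a i)⁻¹ = a i * (a k * z) * z⁻¹ * (a i)⁻¹ := by group
      _ = a i * z * a k * (z⁻¹ * (a i)⁻¹) := by rw [hc (a k)]; group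
  refine ⟨fun i => π (a i), by rw [← Set.range_comp]; rfl, fun i j h => hsame i j h, ?_, ?_, ?_⟩
  · rw [show (QuotientGroup.mk : G → G ⧸ Subgroup.center G) '' Set.range a = π '' Set.range a from rfl,
      ← MonoidHom.map_closure, hgen,
      Subgroup.map_top_of_surjective π (QuotientGroup.mk'_surjective _)]
  · rw [Subgroup.eq_bot_iff_forall]
    intro x hx
    obtain ⟨g, rfl⟩ := QuotientGroup.mk'_surjective _ x
    rw [QuotientGroup.mk'_apply, QuotientGroup.eq_one_iff]
    refine mem_center_of_gen hgen fun i => ?_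
    obtain ⟨j, hj⟩ := exists_conj hinj hop g (hgen ▸ Subgroup.mem_top g) i
    rw [hj]
    refine congrArg a (hsame j i ?_)
    rw [← hj]
    have := Subgroup.mem_center_iff.1 hx (π (a i))
    simp only [map_mul, map_inv]
    rw [← this, mul_inv_cancel_right]
  · intro i j
    show π (a i) * π (a j) * (π (a i))⁻¹ = π (a (op i j))
    rw [← map_inv, ← map_mul, ← map_mul, hop]

/-- A generating family of a centreless group. -/
theorem isTable_of_center {D : Set G} {op : ι → ι → ι} (a : ι → G) (hD : Set.range a = D)
    (hgen : Subgroup.closure D = ⊤) (hinj : Function.Injective a)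
    (hz : Subgroup.center G = ⊥)
    (hop : ∀ i j, a i * a j * (a i)⁻¹ = a (op i j)) : IsTable D op :=
  ⟨a, hD, hinj, hgen, hz, hop⟩

/-- A row of a table read as indices. -/
def tabOp (n : ℕ) [NeZero n] (t : List (List ℕ)) (i j : Fin n) : Fin n :=
  Fin.ofNat n ((t.getD i.1 []).getD j.1 0)

/-- A list of coordinate lists read as vectors. -/
def vecOf {R : Type*} (f : ℕ → R) (t : List (List ℕ)) (i : ℕ) (k : ℕ) : R :=
  f ((t.getD i []).getD k 0)

end H37.Fischer.Small
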