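import Cfsg.Agent.S0440
import Cfsg.Agent.H37.Fischer.SmallBase
import Cfsg.Agent.H37.Fischer.SmallData

/-!
The transposition classes of degree six and eight and the transvection class of the symplectic group
of dimension four over two elements, by their tables.
-/

set_option autoImplicit false

namespace H37.Fischer.Small

open Matrix

/-- The transposition of a listed pair. -/
def swapOf (n : ℕ) [NeZero n] (t : List (List ℕ)) (i : ℕ) : Equiv.Perm (Fin n) :=
  Equiv.swap (vecOf (Fin.ofNat n) t i 0) (vecOf (Fin.ofNat n) t i 1)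

theorem swap_table {n N : ℕ} [NeZero n] [NeZero N] (t tab : List (List ℕ))
    (hne : ∀ i : Fin N, vecOf (Fin.ofNat n) t i.1 0 ≠ vecOf (Fin.ofNat n) t i.1 1)
    (hall : ∀ x y : Fin n, x ≠ y → ∃ i : Fin N, Equiv.swap x y = swapOf n t i.1)
    (hinj : ∀ i j : Fin N, swapOf n t i.1 = swapOf n t j.1 → i = j)
    (hthird : ∀ x : Fin n, ∃ y z, x ≠ y ∧ x ≠ z ∧ y ≠ z)
    (hop : ∀ i j : Fin N, swapOf n t i.1 * swapOf n t j.1 * swapOf n t i.1 =
      swapOf n t (tabOp N tab i j).1) :
    IsTable {σ : Equiv.Perm (Fin n) | σ.IsSwap} (tabOp N tab) := by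
  refine isTable_of_center (fun i : Fin N => swapOf n t i.1) ?_ Equiv.Perm.closure_isSwap hinj ?_ ?_
  · ext σ
    constructor
    · rintro ⟨i, rfl⟩
      exact ⟨_, _, hne i, rfl⟩
    · rintro ⟨x, y, hxy, rfl⟩
      obtain ⟨i, hi⟩ := hall x y hxy
      exact ⟨i, hi.symm⟩
  · rw [Subgroup.eq_bot_iff_forall]
    intro g hg
    refine Equiv.ext fun x => ?_
    rw [Equiv.Perm.one_apply]
    by_contra hx
    obtain ⟨y, z, hxy, hxz, hyz⟩ := hthird x
    have key : ∀ y, x ≠ y → g x = y := by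
      intro y _
      by_contra hy
      have h1 := congrArg (fun σ : Equiv.Perm (Fin n) => σ x) (Subgroup.mem_center_iff.1 hg (Equiv.swap x y))
      simp only [Equiv.Perm.mul_apply, Equiv.swap_apply_left, Equiv.swap_apply_of_ne_of_ne hx hy] at h1
      exact (g.injective h1).symm ▸ (‹x ≠ y›) <| rfl
    exact hyz ((key y hxy).symm.trans (key z hxz))
  · intro i j
    show swapOf n t i.1 * swapOf n t j.1 * (swapOf n t i.1)⁻¹ = _
    rw [show (swapOf n t i.1)⁻¹ = swapOf n t i.1 from Equiv.swap_inv _ _]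
    exact hop i j

theorem swap6_table : IsTable {σ : Equiv.Perm (Fin 6) | σ.IsSwap} (tabOp 15 spTab) :=
  swap_table spPair spTab (by decide +kernel) (by decide +kernel) (by decide +kernel)
    (by decide +kernel) (by decide +kernel)

theorem swap8_table : IsTable {σ : Equiv.Perm (Fin 8) | σ.IsSwap} (tabOp 28 plusTab) :=
  swap_table plusPair plusTab (by decide +kernel) (by decide +kernel) (by decide +kernel)
    (by decide +kernel) (by decide +kernel)

/-- Coordinates on two hyperbolic pairs. -/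
def spIdx : Fin 2 ⊕ Fin 2 → ℕ
  | .inl i => i.1
  | .inr i => 2 + i.1

/-- The non-zero vectors of dimension four. -/
def spVecs (i : Fin 15) (k : Fin 2 ⊕ Fin 2) : ZMod 2 :=
  vecOf (fun m => (m : ZMod 2)) spVec i.1 (spIdx k)

/-- The image of `y` under the transvection at `x`. -/
def spStep (x y : Fin 2 ⊕ Fin 2 → ZMod 2) : Fin 2 ⊕ Fin 2 → ZMod 2 :=
  y + (y ⬝ᵥ (Matrix.J (Fin 2) (ZMod 2) *ᵥ x)) • x

theorem sp_nonzero : ∀ i, spVecs i ≠ 0 := by decide +kernel

theorem sp_act : ∀ i j, spStep (spVecs i) (spVecs j) = spVecs (tabOp 15 spTab i j) := by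
  decide +kernel

theorem sp_dist : ∀ i j, (∀ k, spStep (spVecs i) (spVecs k) = spStep (spVecs j) (spVecs k)) →
    i = j := by decide +kernel

theorem sp_all : ∀ v, v ≠ 0 → ∃ i, v = spVecs i := by decide +kernel

theorem sp_table :
    IsTable {g : Matrix.symplecticGroup (Fin 2) (ZMod 2) |
      ((g : Matrix (Fin 2 ⊕ Fin 2) (Fin 2 ⊕ Fin 2) (ZMod 2)) - 1).rank = 1} (tabOp 15 spTab) := by
  let a : Fin 15 → Matrix.symplecticGroup (Fin 2) (ZMod 2) := fun i => H48.tv (spVecs i) 1
  have hst : ∀ i x, a i • x = spStep (spVecs i) x := fun i x => by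
    rw [H48.tv_smul, one_mul]; rfl
  have hinj : Function.Injective a := fun i j h => sp_dist i j fun k => by
    rw [← hst, ← hst, h]
  refine isTable_of_center a ?_ (Cfsg.Agent.S0440.result 2 (by norm_num)).2.2 hinj ?_ ?_
  · ext g
    rw [Set.mem_ofPred_eq, Cfsg.Agent.S0440.rank_one_iff]
    constructor
    · rintro ⟨i, rfl⟩
      exact ⟨_, sp_nonzero i, rfl⟩
    · rintro ⟨v, hv, rfl⟩
      obtain ⟨i, rfl⟩ := sp_all v hv
      exact ⟨i, rfl⟩
  · rw [Subgroup.eq_bot_iff_forall]
    intro g hg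
    refine H48.sp_ext fun x => ?_
    rw [one_smul]
    by_cases hx : x = 0
    · rw [hx, smul_zero]
    obtain ⟨i, rfl⟩ := sp_all x hx
    obtain ⟨j, hj⟩ := sp_all (g • spVecs i) fun h => sp_nonzero i (by
      have := congrArg (fun y => g⁻¹ • y) h
      simpa using this)
    have h1 : a j = a i := by
      show H48.tv (spVecs j) 1 = _
      rw [← hj, ← H48.tv_conj, ← Subgroup.mem_center_iff.1 hg, mul_inv_cancel_right]
    rw [hj, hinj h1]
  · intro i j
    show a i * H48.tv (spVecs j) 1 * (a i)⁻¹ = _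
    rw [H48.tv_conj, hst, sp_act]

end H37.Fischer.Small
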