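import Cfsg.Agent.H92.UnitaryThreeTransp
import Cfsg.Agent.H37.Fischer.SmallBase
import Cfsg.Agent.H37.Fischer.SmallData

/-!
The transvection class of the four-dimensional projective unitary group over four scalars, by its
table.
-/

set_option autoImplicit false
set_option linter.unusedSectionVars false

namespace H37.Fischer.Small

open H50 H92 Matrix Cfsg

/-- Sums of coded scalars. -/
def addC : Fin 4 → Fin 4 → Fin 4 := ![![0, 1, 2, 3], ![1, 0, 3, 2], ![2, 3, 0, 1], ![3, 2, 1, 0]]

/-- Products of coded scalars. -/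
def mulC : Fin 4 → Fin 4 → Fin 4 := ![![0, 0, 0, 0], ![0, 1, 2, 3], ![0, 2, 3, 1], ![0, 3, 1, 2]]

/-- The hermitian form on coded vectors. -/
def hC (u v : Fin 4 → Fin 4) : Fin 4 :=
  addC (addC (addC (mulC (u 0) (mulC (v 0) (v 0))) (mulC (u 1) (mulC (v 1) (v 1))))
    (mulC (u 2) (mulC (v 2) (v 2)))) (mulC (u 3) (mulC (v 3) (v 3)))

/-- The image of a coded vector `y` under the transvection at `x`. -/
def stepC (x y : Fin 4 → Fin 4) : Fin 4 → Fin 4 := fun k => addC (y k) (mulC (hC y x) (x k))

/-- A multiple of a coded vector. -/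
def smulC (s : Fin 4) (x : Fin 4 → Fin 4) : Fin 4 → Fin 4 := fun k => mulC s (x k)

/-- The coded isotropic points. -/
def unitPts (i : Fin 45) (k : Fin 4) : Fin 4 := vecOf (Fin.ofNat 4) unitVec i.1 k.1

theorem unit_iso : ∀ i, hC (unitPts i) (unitPts i) = 0 ∧ unitPts i ≠ fun _ => 0 := by decide +kernel

theorem unit_act : ∀ i j, ∃ s, s ≠ 0 ∧
    stepC (unitPts i) (unitPts j) = smulC s (unitPts (tabOp 45 unitTab i j)) := by decide +kernel

theorem unit_dist : ∀ i j, (∀ k, stepC (unitPts i) (unitPts k) = stepC (unitPts j) (unitPts k)) →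
    i = j := by decide +kernel

theorem unit_all : ∀ v, hC v v = 0 → v ≠ (fun _ => 0) → ∃ i s, s ≠ 0 ∧ v = smulC s (unitPts i) := by
  decide +kernel

theorem unit_faith : ∀ i j, (∀ k, tabOp 45 unitTab i k = tabOp 45 unitTab j k) → i = j := by
  decide +kernel

theorem unit_add : ∀ a b, addC a b = addC b a ∧ addC a a = 0 ∧ addC 0 a = a := by decide

variable {F : Type*} [Field F] (w : F)

/-- The scalar of a code. -/
def valC : Fin 4 → F := ![0, 1, w, w + 1]

/-- A coded vector read in the field. -/
def vecC (x : Fin 4 → Fin 4) : Fin 4 → F := fun k => valC w (x k)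

variable {w} (h2 : (2 : F) = 0) (hw : w * w = w + 1)
include h2 hw

theorem valC_add (a b : Fin 4) : valC w (addC a b) = valC w a + valC w b := by
  fin_cases a <;> fin_cases b <;> simp [valC, addC] <;>
    first
      | ring1
      | linear_combination -h2
      | linear_combination -w * h2
      | linear_combination -(w + 1) * h2

theorem valC_mul (a b : Fin 4) : valC w (mulC a b) = valC w a * valC w b := by
  fin_cases a <;> fin_cases b <;> simp [valC, mulC] <;>
    first
      | ring1
      | linear_combination -hw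
      | linear_combination hw
      | linear_combination -hw - w * h2
      | linear_combination -hw - h2 - w * h2

theorem valC_inj : Function.Injective (valC w) := by
  have h0 : w ≠ 0 := fun h => by rw [h] at hw; simp at hw
  have h1 : w ≠ 1 := fun h => by
    rw [h] at hw; exact one_ne_zero (show (1 : F) = 0 by linear_combination -hw)
  have h3 : w + 1 ≠ 0 := fun h => h1 (by linear_combination h - h2)
  intro a b h
  fin_cases a <;> fin_cases b <;> simp [valC] at h <;>
    first
      | rfl
      | exact absurd h h0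
      | exact absurd h.symm h0
      | exact absurd h h1
      | exact absurd h.symm h1
      | exact absurd h h3
      | exact absurd h.symm h3

theorem vecC_inj : Function.Injective (vecC w) := fun _ _ h =>
  funext fun k => valC_inj h2 hw (congrFun h k)

theorem vecC_form (x y : Fin 4 → Fin 4) :
    hermForm 4 F 2 (vecC w x) (vecC w y) = valC w (hC x y) := by
  rw [hermForm, Fin.sum_univ_four, hC]
  simp only [valC_add h2 hw, valC_mul h2 hw, vecC, pow_two]

theorem vecC_step (x y : Fin 4 → Fin 4) :
    vecC w (stepC x y) = vecC w y + hermForm 4 F 2 (vecC w y) (vecC w x) • vecC w x := by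
  funext k
  simp only [vecC, stepC, valC_add h2 hw, valC_mul h2 hw, Pi.add_apply, Pi.smul_apply, smul_eq_mul,
    ← vecC_form h2 hw]

omit h2 hw

theorem vecC_smul (h2 : (2 : F) = 0) (hw : w * w = w + 1) (s : Fin 4) (x : Fin 4 → Fin 4) :
    vecC w (smulC s x) = valC w s • vecC w x := funext fun k => valC_mul h2 hw s (x k)

theorem exists_gen [Fintype F] (hF : Fintype.card F = 4) :
    ∃ w : F, w * w = w + 1 := by
  classical
  have h2 : (2 : F) = 0 := gf4_two (F := F) (by rw [hF]; norm_num)
  obtain ⟨w, hw⟩ : ∃ w : F, w ∉ ({0, 1} : Finset F) := by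
    by_contra h
    push Not at h
    have := Finset.card_le_card (fun x _ => h x : (Finset.univ : Finset F) ⊆ {0, 1})
    have h' : ({0, 1} : Finset F).card ≤ 2 := Finset.card_le_two
    rw [Finset.card_univ, hF] at this
    omega
  simp only [Finset.mem_insert, Finset.mem_singleton, not_or] at hw
  have h3 := gf4_cube (F := F) (by rw [hF]; norm_num) hw.1
  have h4 : (w - 1) * (w * w + w + 1) = 0 := by linear_combination h3
  rcases mul_eq_zero.1 h4 with h | h
  · exact absurd (sub_eq_zero.1 h) hw.2
  · exact ⟨w, by linear_combination h - (w + 1) * h2⟩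

/-- The projective group with the image of its transvections. -/
theorem unit_table (F : Type*) [Field F] [Fintype F] (hF : Fintype.card F = 4) :
    IsTable ((QuotientGroup.mk : ↥(Cfsg.SU 4 F 2) → Cfsg.PSU 4 F 2) ''
      {g : ↥(Cfsg.SU 4 F 2) |
        (((g : Matrix.SpecialLinearGroup (Fin 4) F) : Matrix (Fin 4) (Fin 4) F) - 1).rank = 1})
      (tabOp 45 unitTab) := by
  classical
  have hF2 : Fintype.card F = 2 ^ 2 := by rw [hF]; norm_num
  have h2 : (2 : F) = 0 := gf4_two hF2
  obtain ⟨w, hw⟩ := exists_gen hF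
  have hinj := valC_inj h2 hw
  have hsurj : Function.Surjective (valC w) :=
    ((Fintype.bijective_iff_injective_and_card _).2 ⟨hinj, by simp [hF]⟩).2
  have hzero : (vecC w fun _ => 0) = (0 : Fin 4 → F) := funext fun _ => rfl
  have hone : (1 : F) + 1 ^ 2 = 0 := by rw [one_pow, one_add_one_eq_two, h2]
  let v : Fin 45 → Fin 4 → F := fun i => vecC w (unitPts i)
  have hv : ∀ i, hermForm 4 F 2 (v i) (v i) = 0 := fun i => by
    rw [vecC_form h2 hw, (unit_iso i).1]; rfl
  let a : Fin 45 → ↥(Cfsg.SU 4 F 2) := fun i => tv hF2 (v i) 1 (hv i) hone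
  have ha : ∀ i, suMat (a i) = unitaryTransvection 4 2 (v i) 1 := fun i => rfl
  have hset : Set.range a = utClass 4 F := by
    ext g
    constructor
    · rintro ⟨i, rfl⟩
      exact ⟨v i, fun h => (unit_iso i).2 (vecC_inj h2 hw (h.trans hzero.symm)), hv i, ha i⟩
    · rintro ⟨x, hx0, hx, hg⟩
      obtain ⟨c, rfl⟩ : ∃ c, vecC w c = x :=
        ⟨fun k => Function.surjInv hsurj (x k), funext fun k => Function.surjInv_eq hsurj (x k)⟩
      have hc : hC c c = 0 := hinj (by rw [← vecC_form h2 hw, hx]; rfl)
      obtain ⟨i, s, hs, rfl⟩ := unit_all c hc fun h => hx0 (by rw [h, hzero])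
      refine ⟨i, SU_ext ?_⟩
      change suMat (a i) = suMat g
      rw [hg, ha, vecC_smul h2 hw, ut_scale hF2 _ fun h => hs (hinj (h.trans rfl))]
  have hrank : {g : ↥(Cfsg.SU 4 F 2) |
      (((g : Matrix.SpecialLinearGroup (Fin 4) F) : Matrix (Fin 4) (Fin 4) F) - 1).rank = 1} =
      utClass 4 F := Set.ext fun g => (mem_utClass_iff hF2 g).symm
  rw [hrank]
  refine isTable_quot a hset ?_ ?_ ?_ unit_faith
  · rw [hset]; exact (utClass_three_transp hF2 le_rfl).2.2
  · intro i j h
    refine unit_dist i j fun k => vecC_inj h2 hw ?_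
    have h1 := congrArg (fun g => suMat g *ᵥ v k) h
    simp only [ha, ut_mulVec, one_mul] at h1
    rw [vecC_step h2 hw, vecC_step h2 hw]
    exact h1
  · intro i j
    refine SU_ext ?_
    change suMat (a i * a j * (a i)⁻¹) = suMat (a (tabOp 45 unitTab i j))
    rw [utClass_conj hF2 (a i) (ha j), ha i, ut_mulVec, one_mul, ← vecC_step h2 hw]
    obtain ⟨s, hs, e⟩ := unit_act i j
    rw [e, vecC_smul h2 hw, ut_scale hF2 _ fun h => hs (hinj (h.trans rfl)), ha]

end H37.Fischer.Small
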