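import Cfsg.Agent.H37.Fischer.SmallRefl
import Cfsg.Agent.H37.Fischer.SmallUnit
import Cfsg.Agent.H37.Fischer.SmallSwap

/-!
Class-preserving identifications of the small 3-transposition groups: the classes of 36 and 45
members with reflection classes in dimension five modulo three, and the classes of 15 and 28 members
with transpositions of degree six and eight.
-/

set_option autoImplicit false

namespace H37.Fischer.Small

theorem two_ne_zero_three : (2 : ZMod 3) ≠ 0 := by decide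

/-- The rank-one class of `O⁻₆(2)` is a reflection class modulo three in dimension five. -/
theorem minus_iso_refl {G : Type*} [Group G] {D : Set G}
    (e₀ : G ≃* ↥(Cfsg.isometryGroup (ZMod 2) (Cfsg.quadFormMinus 2 (ZMod 2) 1 1)))
    (h₀ : e₀ '' D = {g : ↥(Cfsg.isometryGroup (ZMod 2) (Cfsg.quadFormMinus 2 (ZMod 2) 1 1)) |
      (((g : GL ((Fin 2 ⊕ Fin 2) ⊕ Fin 2) (ZMod 2)) :
        Matrix ((Fin 2 ⊕ Fin 2) ⊕ Fin 2) ((Fin 2 ⊕ Fin 2) ⊕ Fin 2) (ZMod 2)) - 1).rank = 1}) :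
    ∃ Q : QuadraticForm (ZMod 3) (Fin 5 → ZMod 3), (QuadraticMap.polarBilin Q).Nondegenerate ∧
      ∃ c : ZMod 3, c ≠ 0 ∧ ∃ e : G ≃* ↥(Cfsg.reflectionSubgroup (⇑Q) c) ⧸
          Subgroup.center ↥(Cfsg.reflectionSubgroup (⇑Q) c),
        e '' D = (QuotientGroup.mk : ↥(Cfsg.reflectionSubgroup (⇑Q) c) → _) ''
          {g : ↥(Cfsg.reflectionSubgroup (⇑Q) c) |
            (g : ↥(Cfsg.isometryGroup (ZMod 3) (⇑Q))) ∈ Cfsg.reflectionsOfNorm (⇑Q) c} := by
  have : Fact (Nat.Prime 3) := ⟨Nat.prime_three⟩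
  obtain ⟨e, he⟩ := exists_iso minus_table orthRefl_table
  exact ⟨diag5 2, diag5_nondeg two_ne_zero_three, 1, one_ne_zero, e₀.trans e,
    by rw [MulEquiv.coe_trans, Set.image_comp, h₀, he]⟩

/-- The transvection class of `PSU₄(2)` is a reflection class modulo three in dimension five. -/
theorem unit_iso_refl {G : Type*} [Group G] {D : Set G} {F : Type*} [Field F] [Fintype F]
    (hF : Fintype.card F = 4) (e₀ : G ≃* Cfsg.PSU 4 F 2)
    (h₀ : e₀ '' D = (QuotientGroup.mk : ↥(Cfsg.SU 4 F 2) → Cfsg.PSU 4 F 2) ''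
      {g : ↥(Cfsg.SU 4 F 2) |
        (((g : Matrix.SpecialLinearGroup (Fin 4) F) : Matrix (Fin 4) (Fin 4) F) - 1).rank = 1}) :
    ∃ Q : QuadraticForm (ZMod 3) (Fin 5 → ZMod 3), (QuadraticMap.polarBilin Q).Nondegenerate ∧
      ∃ c : ZMod 3, c ≠ 0 ∧ ∃ e : G ≃* ↥(Cfsg.reflectionSubgroup (⇑Q) c) ⧸
          Subgroup.center ↥(Cfsg.reflectionSubgroup (⇑Q) c),
        e '' D = (QuotientGroup.mk : ↥(Cfsg.reflectionSubgroup (⇑Q) c) → _) ''
          {g : ↥(Cfsg.reflectionSubgroup (⇑Q) c) |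
            (g : ↥(Cfsg.isometryGroup (ZMod 3) (⇑Q))) ∈ Cfsg.reflectionsOfNorm (⇑Q) c} := by
  have : Fact (Nat.Prime 3) := ⟨Nat.prime_three⟩
  obtain ⟨e, he⟩ := exists_iso (unit_table F hF) unitRefl_table
  exact ⟨diag5 1, diag5_nondeg one_ne_zero, 1, one_ne_zero, e₀.trans e,
    by rw [MulEquiv.coe_trans, Set.image_comp, h₀, he]⟩

/-- The transvection class of `Sp₄(2)` is the class of transpositions of degree six. -/
theorem sp_iso_swap {G : Type*} [Group G] {D : Set G}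
    (e₀ : G ≃* Matrix.symplecticGroup (Fin 2) (ZMod 2))
    (h₀ : e₀ '' D = {g : Matrix.symplecticGroup (Fin 2) (ZMod 2) |
      ((g : Matrix (Fin 2 ⊕ Fin 2) (Fin 2 ⊕ Fin 2) (ZMod 2)) - 1).rank = 1}) :
    ∃ e : G ≃* Equiv.Perm (Fin 6), e '' D = {σ : Equiv.Perm (Fin 6) | σ.IsSwap} := by
  obtain ⟨e, he⟩ := exists_iso sp_table swap6_table
  exact ⟨e₀.trans e, by rw [MulEquiv.coe_trans, Set.image_comp, h₀, he]⟩

/-- The rank-one class of `O⁺₆(2)` is the class of transpositions of degree eight. -/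
theorem plus_iso_swap {G : Type*} [Group G] {D : Set G}
    (e₀ : G ≃* ↥(Cfsg.isometryGroup (ZMod 2) (Cfsg.quadFormPlus 3 (ZMod 2))))
    (h₀ : e₀ '' D = {g : ↥(Cfsg.isometryGroup (ZMod 2) (Cfsg.quadFormPlus 3 (ZMod 2))) |
      (((g : GL (Fin 3 ⊕ Fin 3) (ZMod 2)) :
        Matrix (Fin 3 ⊕ Fin 3) (Fin 3 ⊕ Fin 3) (ZMod 2)) - 1).rank = 1}) :
    ∃ e : G ≃* Equiv.Perm (Fin 8), e '' D = {σ : Equiv.Perm (Fin 8) | σ.IsSwap} := by
  obtain ⟨e, he⟩ := exists_iso plus_table swap8_table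
  exact ⟨e₀.trans e, by rw [MulEquiv.coe_trans, Set.image_comp, h₀, he]⟩

/-- Transpositions of degree six as the transvection class of `Sp₄(2)`. -/
theorem swap_iso_sp {G : Type*} [Group G] {D : Set G} (e₀ : G ≃* Equiv.Perm (Fin 6))
    (h₀ : e₀ '' D = {σ : Equiv.Perm (Fin 6) | σ.IsSwap}) :
    ∃ e : G ≃* Matrix.symplecticGroup (Fin 2) (ZMod 2),
      e '' D = {g : Matrix.symplecticGroup (Fin 2) (ZMod 2) |
        ((g : Matrix (Fin 2 ⊕ Fin 2) (Fin 2 ⊕ Fin 2) (ZMod 2)) - 1).rank = 1} := by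
  obtain ⟨e, he⟩ := exists_iso swap6_table sp_table
  exact ⟨e₀.trans e, by rw [MulEquiv.coe_trans, Set.image_comp, h₀, he]⟩

end H37.Fischer.Small
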