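import Cfsg.Agent.H37.Fischer.Small
import Cfsg.Agent.H71.Fischer.Defs

/-!
The small identifications in the form used by the induction on groups of 3-transpositions.
-/

set_option autoImplicit false

namespace H37.Fischer.Small

universe u

theorem psuFour : H71.Fischer.PSUFourStmt.{u} := by
  intro X _ E h
  obtain ⟨F, hFi, hFf, hF, e, he⟩ := h
  exact unit_iso_refl hF e he

theorem oMinusTwo : H71.Fischer.OMinusTwoStmt.{u} := by
  intro X _ E h
  obtain ⟨e, he⟩ := h
  exact minus_iso_refl e he

theorem oPlusThree : H71.Fischer.OPlusThreeStmt.{u} := by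
  intro X _ E h
  obtain ⟨e, he⟩ := h
  exact plus_iso_swap e he

end H37.Fischer.Small
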