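import Cfsg.Agent.H92.OrthThreeTransp
import Cfsg.Agent.H37.Fischer.SmallBase
import Cfsg.Prelude.Def_FischerSpaces

/-!
Reflection classes given by a list of norm-one vectors and their conjugation table.
-/

set_option autoImplicit false
set_option linter.unusedSectionVars false

namespace H37.Fischer.Small

open H43 Matrix

variable {F : Type*} [Field F] {κ : Type} [Fintype κ] [DecidableEq κ]

/-- The image of `y` under the reflection in a norm-one vector `x`, for a form given as a function. -/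
def step (q : (κ → F) → F) (x y : κ → F) : κ → F :=
  y - (q (y + x) - q y - q x) • x

variable {ι : Type} {Q : QuadraticForm F (κ → F)} {q : (κ → F) → F} {vec : ι → κ → F}
  {op : ι → ι → ι}

/-- The reflection in the `i`-th vector. -/
noncomputable def ref (Q : QuadraticForm F (κ → F)) (vec : ι → κ → F) (i : ι) :
    ↥(Cfsg.isometryGroup F ⇑Q) :=
  (toOrth Q).symm (refl Q (vec i))

theorem refl_step (hq : ∀ v, Q v = q v) {x : κ → F} (h1 : q x = 1) (y : κ → F) :
    (refl Q x).1 y = step q x y := by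
  rw [refl_apply, step, polB_apply, QuadraticMap.polar, hq, hq, hq, h1, inv_one, one_mul]

/-- The hypotheses on a list of vectors and its table, all decidable. -/
structure Checks (q : (κ → F) → F) (vec : ι → κ → F) (op : ι → ι → ι) : Prop where
  norm : ∀ i, q (vec i) = 1
  act : ∀ i j, step q (vec i) (vec j) = vec (op i j) ∨ step q (vec i) (vec j) = -vec (op i j)
  dist : ∀ i j, (∀ k, step q (vec i) (vec k) = step q (vec j) (vec k)) → i = j
  all : ∀ v, q v = 1 → ∃ i, v = vec i ∨ v = -vec i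
  faith : ∀ i j, (∀ k, op i k = op j k) → i = j

variable (hc : Checks q vec op) (hq : ∀ v, Q v = q v)
include hc hq

theorem ref_inj : Function.Injective (ref Q vec) := fun i j h => hc.dist i j fun k => by
  rw [← refl_step hq (hc.norm i), ← refl_step hq (hc.norm j)]
  exact congrArg (fun g : orthGroup Q => g.1 (vec k)) ((toOrth Q).symm.injective h)

theorem ref_op (i j : ι) : ref Q vec i * ref Q vec j * (ref Q vec i)⁻¹ = ref Q vec (op i j) := by
  simp only [ref]
  rw [← map_inv, ← map_mul, ← map_mul, refl_conj, refl_step hq (hc.norm i)]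
  rcases hc.act i j with h | h <;> rw [h]
  rw [refl_neg]

theorem range_ref : Set.range (ref Q vec) = Cfsg.reflectionsOfNorm (⇑Q) 1 := by
  ext g
  constructor
  · rintro ⟨i, rfl⟩
    exact ⟨vec i, by rw [hq, hc.norm i],
      (toOrth_eq_refl_iff _ _).1 ((toOrth Q).apply_symm_apply _)⟩
  · rintro ⟨v, hv, hg⟩
    rw [hq] at hv
    obtain ⟨i, hi⟩ := hc.all v hv
    refine ⟨i, (toOrth Q).injective ?_⟩
    rw [ref, MulEquiv.apply_symm_apply, (toOrth_eq_refl_iff g v).2 hg]
    rcases hi with rfl | rfl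
    · rfl
    · rw [refl_neg]

/-- The reflection group modulo its centre with the image of its reflections. -/
theorem isTable_refl [Finite ι] :
    IsTable ((QuotientGroup.mk : ↥(Cfsg.reflectionSubgroup (⇑Q) 1) →
        ↥(Cfsg.reflectionSubgroup (⇑Q) 1) ⧸ Subgroup.center ↥(Cfsg.reflectionSubgroup (⇑Q) 1)) ''
      {g : ↥(Cfsg.reflectionSubgroup (⇑Q) 1) |
        (g : ↥(Cfsg.isometryGroup F (⇑Q))) ∈ Cfsg.reflectionsOfNorm (⇑Q) 1}) op := by
  have hmem : ∀ i, ref Q vec i ∈ Cfsg.reflectionSubgroup (⇑Q) 1 := fun i =>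
    Subgroup.subset_closure (range_ref hc hq ▸ ⟨i, rfl⟩)
  let a : ι → ↥(Cfsg.reflectionSubgroup (⇑Q) 1) := fun i => ⟨ref Q vec i, hmem i⟩
  have hD : Set.range a = {g : ↥(Cfsg.reflectionSubgroup (⇑Q) 1) |
      (g : ↥(Cfsg.isometryGroup F (⇑Q))) ∈ Cfsg.reflectionsOfNorm (⇑Q) 1} := by
    ext g
    constructor
    · rintro ⟨i, rfl⟩
      exact range_ref hc hq ▸ ⟨i, rfl⟩
    · intro hg
      rw [Set.mem_ofPred_eq, ← range_ref hc hq] at hg
      obtain ⟨i, hi⟩ := hg
      exact ⟨i, Subtype.ext hi⟩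
  refine isTable_quot a hD ?_ (fun i j h => ref_inj hc hq (congrArg Subtype.val h))
    (fun i j => Subtype.ext (ref_op hc hq i j)) hc.faith
  rw [hD]
  exact Subgroup.closure_closure_coe_preimage (k := Cfsg.reflectionsOfNorm (⇑Q) 1)

omit hc hq

/-- An orthogonal group over two elements with its rank-one elements. -/
theorem isTable_isometry {ι κ : Type} [Finite ι] [Nonempty ι] [Fintype κ] [DecidableEq κ]
    (Q : QuadraticForm (ZMod 2) (κ → ZMod 2)) (hQ : (polB Q).Nondegenerate)
    (hd : Fintype.card κ ≠ 4) {f : (κ → ZMod 2) → ZMod 2} (hf : ⇑Q = f) {vec : ι → κ → ZMod 2}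
    {op : ι → ι → ι} (hc : Checks f vec op)
    (hspan : ∀ k, ∃ i j, (Pi.single k 1 : κ → ZMod 2) = vec i + vec j ∨ Pi.single k 1 = vec i) :
    IsTable {g : ↥(Cfsg.isometryGroup (ZMod 2) f) |
      (((g : GL κ (ZMod 2)) : Matrix κ κ (ZMod 2)) - 1).rank = 1} op := by
  subst hf
  have hq : ∀ v, Q v = Q v := fun _ => rfl
  have hneg : ∀ v : κ → ZMod 2, -v = v := fun v => funext fun k => ZMod.neg_eq_self_mod_two _
  have hex : ∃ v, Q v ≠ 0 := ⟨vec (Classical.arbitrary ι), by rw [hc.norm]; exact one_ne_zero⟩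
  have hD : Set.range (ref Q vec) = {g : ↥(Cfsg.isometryGroup (ZMod 2) ⇑Q) |
      (((g : GL κ (ZMod 2)) : Matrix κ κ (ZMod 2)) - 1).rank = 1} := by
    rw [range_ref hc hq]
    ext g
    have hr : resid (toOrth Q g) =
        LinearMap.range (((g : GL κ (ZMod 2)) : Matrix κ κ (ZMod 2)) - 1).mulVecLin := by
      apply le_antisymm <;> rintro _ ⟨x, rfl⟩
      · exact ⟨-x, by rw [Matrix.mulVecLin_apply, Matrix.sub_mulVec, Matrix.one_mulVec,
          Matrix.mulVec_neg, resMap_apply, toOrth_apply]; abel⟩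
      · exact ⟨-x, by rw [Matrix.mulVecLin_apply, Matrix.sub_mulVec, Matrix.one_mulVec,
          resMap_apply, toOrth_apply, Matrix.mulVec_neg]; abel⟩
    rw [Set.mem_ofPred_eq, Matrix.rank, ← hr, ← H92.mem_reflSet_iff hQ]
    constructor
    · rintro ⟨v, hv, hg⟩
      exact ⟨v, hv ▸ one_ne_zero, (toOrth_eq_refl_iff g v).2 hg⟩
    · rintro ⟨v, hv, hg⟩
      exact ⟨v, H92.qval_eq_one hv, (toOrth_eq_refl_iff g v).1 hg⟩
  refine isTable_of_center (ref Q vec) hD ?_ (ref_inj hc hq) ?_ (ref_op hc hq)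
  · exact (H92.isometry_three_transp Q hQ hd hex rfl).2.2
  · rw [Subgroup.eq_bot_iff_forall]
    intro g hg
    apply (toOrth Q).injective
    rw [map_one]
    have hfix : ∀ i, (toOrth Q g).1 (vec i) = vec i := by
      intro i
      have h1 : refl Q ((toOrth Q g).1 (vec i)) = refl Q (vec i) := by
        rw [← refl_conj]
        have h2 := congrArg (toOrth Q) (Subgroup.mem_center_iff.1 hg (ref Q vec i))
        rw [map_mul, map_mul, ref, MulEquiv.apply_symm_apply] at h2
        rw [← h2, mul_inv_cancel_right]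
      obtain ⟨j, hj⟩ := hc.all ((toOrth Q g).1 (vec i)) (by rw [orth_qmap, hc.norm i])
      rw [hneg, or_self] at hj
      rw [hj] at h1 ⊢
      rw [ref_inj hc hq (congrArg (toOrth Q).symm h1)]
    refine orth_ext fun x => ?_
    have hlin : ((toOrth Q g).1 : (κ → ZMod 2) →ₗ[ZMod 2] κ → ZMod 2) = LinearMap.id := by
      refine (Pi.basisFun (ZMod 2) κ).ext fun k => ?_
      rw [Pi.basisFun_apply, LinearEquiv.coe_coe, LinearMap.id_apply]
      obtain ⟨i, j, h | h⟩ := hspan k
      · rw [h, map_add, hfix, hfix]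
      · rw [h, hfix]
    exact DFunLike.congr_fun hlin x

end H37.Fischer.Small
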