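import Cfsg.Agent.H37.Fischer.SmallOrth
import Cfsg.Agent.H37.Fischer.SmallData

/-!
The two five-dimensional reflection classes modulo three, and the classes of the orthogonal groups
of dimension six over two elements, by their tables.
-/

set_option autoImplicit false

namespace H37.Fischer.Small

open H43 Matrix

local instance factThreeSmall : Fact (Nat.Prime 3) := ⟨Nat.prime_three⟩

/-- The diagonal form in dimension five with last coefficient `d`. -/
noncomputable def diag5 (d : ZMod 3) : QuadraticForm (ZMod 3) (Fin 5 → ZMod 3) :=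
  QuadraticMap.weightedSumSquares (ZMod 3) ![1, 1, 1, 1, d]

/-- Its values. -/
def val5 (d : ZMod 3) (v : Fin 5 → ZMod 3) : ZMod 3 :=
  v 0 * v 0 + v 1 * v 1 + v 2 * v 2 + v 3 * v 3 + d * (v 4 * v 4)

theorem diag5_apply (d : ZMod 3) (v : Fin 5 → ZMod 3) : diag5 d v = val5 d v := by
  simp [diag5, val5, QuadraticMap.weightedSumSquares_apply, Fin.sum_univ_five]

theorem diag5_nondeg {d : ZMod 3} (hd : d ≠ 0) :
    (QuadraticMap.polarBilin (diag5 d)).Nondegenerate := by
  have hp : ∀ v w, QuadraticMap.polar (⇑(diag5 d)) v w =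
      2 * (v 0 * w 0 + v 1 * w 1 + v 2 * w 2 + v 3 * w 3 + d * (v 4 * w 4)) := fun v w => by
    simp only [QuadraticMap.polar, diag5_apply, val5, Pi.add_apply]; ring
  have key : ∀ v, (∀ w, QuadraticMap.polar (⇑(diag5 d)) v w = 0) → v = 0 := fun v hv => by
    funext i
    have h := hv (Pi.single i 1)
    rw [hp] at h
    fin_cases i <;>
      simp [show (2 : ZMod 3) ≠ 0 by decide, hd] at h ⊢ <;> exact h
  exact ⟨fun v hv => key v fun w => by simpa using hv w,
    fun v hv => key v fun w => by rw [QuadraticMap.polar_comm]; simpa using hv w⟩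

/-- Vectors of the class with 36 members. -/
def orthReflVec (i : Fin 36) (k : Fin 5) : ZMod 3 := vecOf (fun m => (m : ZMod 3)) orthRefl i.1 k.1

/-- Vectors of the class with 45 members. -/
def unitReflVec (i : Fin 45) (k : Fin 5) : ZMod 3 := vecOf (fun m => (m : ZMod 3)) unitRefl i.1 k.1

/-- Coordinates on the two hyperbolic pairs and the anisotropic pair. -/
def minusIdx : (Fin 2 ⊕ Fin 2) ⊕ Fin 2 → ℕ
  | .inl (.inl i) => i.1
  | .inl (.inr i) => 2 + i.1
  | .inr i => 4 + i.1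

/-- Coordinates on three hyperbolic pairs. -/
def plusIdx : Fin 3 ⊕ Fin 3 → ℕ
  | .inl i => i.1
  | .inr i => 3 + i.1

/-- The anisotropic vectors of the minus form. -/
def minusVec (i : Fin 36) (k : (Fin 2 ⊕ Fin 2) ⊕ Fin 2) : ZMod 2 :=
  vecOf (fun m => (m : ZMod 2)) orthVec i.1 (minusIdx k)

/-- The anisotropic vectors of the plus form. -/
def plusVecs (i : Fin 28) (k : Fin 3 ⊕ Fin 3) : ZMod 2 :=
  vecOf (fun m => (m : ZMod 2)) plusVec i.1 (plusIdx k)

theorem orthRefl_checks : Checks (val5 2) orthReflVec (tabOp 36 orthTab) :=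
  ⟨by decide +kernel, by decide +kernel, by decide +kernel, by decide +kernel, by decide +kernel⟩

theorem unitRefl_checks : Checks (val5 1) unitReflVec (tabOp 45 unitTab) :=
  ⟨by decide +kernel, by decide +kernel, by decide +kernel, by decide +kernel, by decide +kernel⟩

theorem minus_checks :
    Checks (Cfsg.quadFormMinus 2 (ZMod 2) 1 1) minusVec (tabOp 36 orthTab) :=
  ⟨by decide +kernel, by decide +kernel, by decide +kernel, by decide +kernel, by decide +kernel⟩

theorem plus_checks : Checks (Cfsg.quadFormPlus 3 (ZMod 2)) plusVecs (tabOp 28 plusTab) :=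
  ⟨by decide +kernel, by decide +kernel, by decide +kernel, by decide +kernel, by decide +kernel⟩

theorem minus_span : ∀ k, ∃ i j, (Pi.single k 1 : (Fin 2 ⊕ Fin 2) ⊕ Fin 2 → ZMod 2) =
    minusVec i + minusVec j ∨ Pi.single k 1 = minusVec i := by decide +kernel

theorem plus_span : ∀ k, ∃ i j, (Pi.single k 1 : Fin 3 ⊕ Fin 3 → ZMod 2) =
    plusVecs i + plusVecs j ∨ Pi.single k 1 = plusVecs i := by decide +kernel

theorem orthRefl_table :
    IsTable ((QuotientGroup.mk : ↥(Cfsg.reflectionSubgroup (⇑(diag5 2)) 1) →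
        ↥(Cfsg.reflectionSubgroup (⇑(diag5 2)) 1) ⧸
          Subgroup.center ↥(Cfsg.reflectionSubgroup (⇑(diag5 2)) 1)) ''
      {g : ↥(Cfsg.reflectionSubgroup (⇑(diag5 2)) 1) |
        (g : ↥(Cfsg.isometryGroup (ZMod 3) (⇑(diag5 2)))) ∈ Cfsg.reflectionsOfNorm (⇑(diag5 2)) 1})
      (tabOp 36 orthTab) := isTable_refl orthRefl_checks (diag5_apply 2)

theorem unitRefl_table :
    IsTable ((QuotientGroup.mk : ↥(Cfsg.reflectionSubgroup (⇑(diag5 1)) 1) →
        ↥(Cfsg.reflectionSubgroup (⇑(diag5 1)) 1) ⧸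
          Subgroup.center ↥(Cfsg.reflectionSubgroup (⇑(diag5 1)) 1)) ''
      {g : ↥(Cfsg.reflectionSubgroup (⇑(diag5 1)) 1) |
        (g : ↥(Cfsg.isometryGroup (ZMod 3) (⇑(diag5 1)))) ∈ Cfsg.reflectionsOfNorm (⇑(diag5 1)) 1})
      (tabOp 45 unitTab) := isTable_refl unitRefl_checks (diag5_apply 1)

theorem minus_table :
    IsTable {g : ↥(Cfsg.isometryGroup (ZMod 2) (Cfsg.quadFormMinus 2 (ZMod 2) 1 1)) |
      (((g : GL ((Fin 2 ⊕ Fin 2) ⊕ Fin 2) (ZMod 2)) :
        Matrix ((Fin 2 ⊕ Fin 2) ⊕ Fin 2) ((Fin 2 ⊕ Fin 2) ⊕ Fin 2) (ZMod 2)) - 1).rank = 1}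
      (tabOp 36 orthTab) :=
  isTable_isometry (qMinus 2 (ZMod 2) 1 1) (qMinus_nondeg 2 (by decide)) (by decide)
    (coe_qMinus 2 (ZMod 2) 1 1) minus_checks minus_span

theorem plus_table :
    IsTable {g : ↥(Cfsg.isometryGroup (ZMod 2) (Cfsg.quadFormPlus 3 (ZMod 2))) |
      (((g : GL (Fin 3 ⊕ Fin 3) (ZMod 2)) :
        Matrix (Fin 3 ⊕ Fin 3) (Fin 3 ⊕ Fin 3) (ZMod 2)) - 1).rank = 1} (tabOp 28 plusTab) :=
  isTable_isometry (qPlus 3 (ZMod 2)) (qPlus_nondeg 3) (by decide)
    (coe_qPlus 3 (ZMod 2)) plus_checks plus_span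

end H37.Fischer.Small
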